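import Groth.Agent.FrobDiff16.Rows
import Groth.Agent.S4989

/-!
# Descending vanishing along powers of `p`
-/

set_option autoImplicit false
set_option backward.isDefEq.respectTransparency false
set_option backward.isDefEq.respectTransparency.types false

universe u

open CategoryTheory CategoryTheory.Limits AlgebraicGeometry TopologicalSpace Opposite

noncomputable section

namespace Groth.Agent.FrobDiff16

open Groth.Agent
open scoped Groth.Agent.H23.PicMul

theorem isNormal_of_smooth_field {X : Scheme.{u}} {k : Type u} [Field k] (f : X ⟶ Spec (CommRingCat.of k))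
    [Smooth f] : Pi1.IsNormalScheme X := fun x =>
  (S4989.result f x (by rw [Scheme.Hom.smoothLocus_eq_top]; trivial)).2.2 (by
    let q : PrimeSpectrum k := f x
    let i : Algebra k ((Spec (CommRingCat.of k)).presheaf.stalk (f x)) := StructureSheaf.stalkAlgebra k q
    have : IsLocalization.AtPrime ((Spec (CommRingCat.of k)).presheaf.stalk (f x)) q.asIdeal :=
      StructureSheaf.IsLocalization.to_stalk k q
    let e := IsLocalization.atUnits k q.asIdeal.primeCompl
      (S := (Spec (CommRingCat.of k)).presheaf.stalk (f x))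
      fun a ha => isUnit_iff_ne_zero.2 fun h0 => ha (h0 ▸ Ideal.zero_mem _)
    exact ⟨e.symm.toRingEquiv.toMulEquiv.isDomain _, IsIntegrallyClosed.of_equiv e.toRingEquiv⟩)

theorem tensorMod_iso {X : Scheme.{u}} {A B : X.Modules} (i : A ≅ B) (Ω : X.Modules) :
    Nonempty (CohB1.tensorMod A Ω ≅ CohB1.tensorMod B Ω) := ⟨(DCoh.tensorBi.mapIso i).app Ω⟩

theorem subsingleton_H1_inverse_pow (k : Type u) [Field k] [IsAlgClosed k] (p : ℕ) [Fact p.Prime]
    (X : Scheme.{u}) [X.Over (Spec (CommRingCat.of k))] [QuasiSeparated (X ↘ (Spec (CommRingCat.of k)))]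
    [IsIntegral X] [FrobSch.IsCharP X p] (hX : Pi1.IsNormalScheme X) (L Linv : X.Modules)
    (hL : PicF.IsInvertible L) (hLinv : ClSub.IsInverseOf Linv L)
    (h0 : ∀ n : ℕ, 1 ≤ n → Subsingleton (Coh.HH X (CohB1.tensorMod (CohB1.tensorPow Linv (p ^ n)) (Omega.sheaf (X ↘ (Spec (CommRingCat.of k))))) 0))
    (n : ℕ) (hn : Subsingleton (Coh.HH X (CohB1.tensorPow Linv (p ^ n)) 1)) :
    Subsingleton (Coh.HH X Linv 1) := by
  induction n with
  | zero =>
    have h1 : PicF.cl (CohB1.tensorPow Linv (p ^ 0)) = PicF.cl Linv := by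
      rw [H23.PicMul.cl_tensorPow, pow_zero, pow_one]
    exact H1_iso_subsingleton (H23.PicMul.cl_eq_iff.1 h1.symm).some hn
  | succ m ih =>
    refine ih ?_
    have e : PicF.cl (CohB1.tensorPow (CohB1.tensorPow Linv (p ^ m)) p) =
        PicF.cl (CohB1.tensorPow Linv (p ^ (m + 1))) := by
      rw [H23.PicMul.cl_tensorPow, H23.PicMul.cl_tensorPow, H23.PicMul.cl_tensorPow, ← pow_mul, ← pow_succ]
    obtain ⟨i⟩ := H23.PicMul.cl_eq_iff.1 e
    obtain ⟨j⟩ := tensorMod_iso i (Omega.sheaf (X ↘ (Spec (CommRingCat.of k))))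
    have hinv : ClSub.IsInverseOf (CohB1.tensorPow Linv (p ^ m)) (CohB1.tensorPow L (p ^ m)) := by
      refine H23.PicMul.cl_eq_iff.1 ?_
      rw [H23.PicMul.cl_tensor, H23.PicMul.cl_tensorPow, H23.PicMul.cl_tensorPow, ← mul_pow,
        ← H23.PicMul.cl_tensor, H23.PicMul.cl_eq_iff.2 hLinv, ← H23.PicMul.one_def, one_pow]
    refine subsingleton_H1_inverse k p hX (CohB1.tensorPow L (p ^ m)) _
      (H23.PicMul.isInvertible_tensorPow hL _) hinv ?_ (H1_iso_subsingleton i hn)
    exact @Function.Injective.subsingleton _ _ _ (Sheaf.H.equiv₀ _ isTerminalTop).injective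
      (subsingleton_sections j.symm (h0 (m + 1) (Nat.le_add_left 1 m)))

end Groth.Agent.FrobDiff16
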